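import Mathlib

/-! Small actions of `A₁₂`: disjoint 3-cycles move disjoint sets. -/

set_option autoImplicit false
set_option maxRecDepth 100000

namespace H63.AE

open Equiv Equiv.Perm

theorem five_seven {G X : Type*} [Group G] [MulAction G X] (P : X → Prop)
    (hP : ∀ (g : G) x, P x → P (g • x))
    (hc : ∀ f : Fin 35 → X, Function.Injective f → ¬ ∀ i, P (f i)) {a b : G}
    (hab : a * b = b * a) (ha : a ^ 5 = 1) (hb : b ^ 7 = 1) {x : X} (hx : P x) :
    a • x = x ∨ b • x = x := by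
  have h35 : (a * b) ^ 35 = 1 := by
    rw [Commute.mul_pow hab, pow_mul a 5 7, pow_mul b 7 5, ha, hb]; simp
  have h15 : (a * b) ^ 15 = b := by
    rw [Commute.mul_pow hab, pow_mul a 5 3, pow_succ b 14, pow_mul b 7 2, ha, hb]; simp
  have h21 : (a * b) ^ 21 = a := by
    rw [Commute.mul_pow hab, pow_mul b 7 3, pow_succ a 20, pow_mul a 5 4, ha, hb]; simp
  by_contra hn
  rw [not_or] at hn
  have h1 : MulAction.period (a * b) x ∣ 35 :=
    MulAction.pow_smul_eq_iff_period_dvd.1 (by rw [h35, one_smul])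
  have h2 : ¬ MulAction.period (a * b) x ∣ 21 := fun h =>
    hn.1 (by have := MulAction.pow_smul_eq_iff_period_dvd.2 h; rwa [h21] at this)
  have h3 : ¬ MulAction.period (a * b) x ∣ 15 := fun h =>
    hn.2 (by have := MulAction.pow_smul_eq_iff_period_dvd.2 h; rwa [h15] at this)
  have h4 : MulAction.period (a * b) x = 35 := by
    have := Nat.le_of_dvd (by decide) h1
    generalize MulAction.period (a * b) x = n at *
    interval_cases n <;> simp_all
  have key : ∀ i j : ℕ, i < j → j < 35 → (a * b) ^ i • x ≠ (a * b) ^ j • x := fun i j h5 h6 e => by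
    obtain ⟨m, rfl⟩ := Nat.exists_eq_add_of_lt h5
    rw [add_assoc, pow_add, mul_smul, smul_left_cancel_iff, eq_comm,
      MulAction.pow_smul_eq_iff_period_dvd, h4] at e
    have := Nat.le_of_dvd (by omega) e
    omega
  refine hc (fun i => (a * b) ^ (i : ℕ) • x) (fun i j e => ?_) fun i => hP _ _ hx
  rcases lt_trichotomy (i : ℕ) j with h | h | h
  · exact absurd e (key _ _ h j.2)
  · exact Fin.ext h
  · exact absurd e.symm (key _ _ h i.2)

/-- A permutation given by its table of values. -/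
noncomputable def pm (n : ℕ) [NeZero n] (c : ℕ)
    (h : Function.Injective fun i : Fin n => Fin.ofNat n (c >>> (4 * i.1) % 16) := by decide +kernel) :
    Perm (Fin n) := Equiv.ofBijective _ (Finite.injective_iff_bijective.1 h)

theorem sign_odd {Ω : Type*} [DecidableEq Ω] [Fintype Ω] {σ : Perm Ω} {m : ℕ} (hm : Odd m)
    (h : σ ^ m = 1) : sign σ = 1 := by
  have := congrArg sign h
  rcases Int.units_eq_one_or (sign σ) with e | e
  · exact e
  · rw [map_pow, e, hm.neg_one_pow, map_one] at this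
    exact absurd this (by decide)

/-- Four disjoint 3-cycles. -/
noncomputable def c12 : Fin 4 → Perm (Fin 12) :=
  ![pm 12 0xba9876543021, pm 12 0xba9876354210, pm 12 0xba9687543210, pm 12 0x9ba876543210]

/-- Permutations of the four blocks. -/
noncomputable def b12 : Fin 9 → Perm (Fin 12) :=
  ![pm 12 0xba9876543210, pm 12 0x543ba9876210, pm 12 0x876543ba9210, pm 12 0xba9210876543,
    pm 12 0x210876ba9543, pm 12 0xba9543210876, pm 12 0x210ba9543876, pm 12 0x543876210ba9,
    pm 12 0x876210543ba9]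

theorem c12_pow : ∀ i, c12 i ^ 3 = 1 := by decide +kernel

theorem c12_sign (i : Fin 4) : sign (c12 i) = 1 := sign_odd (by decide) (c12_pow i)

theorem b12_spec (i j : Fin 4) (h : i ≠ j) : ∃ σ, sign σ = 1 ∧ σ * c12 0 = c12 i * σ ∧
    σ * c12 1 = c12 j * σ := by
  have : ∀ i j, i ≠ j → ∃ a b, b12 a * b12 b * c12 0 = c12 i * (b12 a * b12 b) ∧
    b12 a * b12 b * c12 1 = c12 j * (b12 a * b12 b) := by decide +kernel
  obtain ⟨a, b, h⟩ := this i j h
  have h3 : ∀ a, b12 a ^ 3 = 1 := by decide +kernel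
  exact ⟨_, by rw [map_mul, sign_odd (by decide) (h3 a), sign_odd (by decide) (h3 b),
    mul_one], h⟩

/-- The 3-cycles as even permutations. -/
noncomputable def a12 (i : Fin 4) : alternatingGroup (Fin 12) := ⟨c12 i, c12_sign i⟩

theorem a12_ne : (a12 0).1 ≠ 1 := by decide +kernel

theorem exists_57 : ∃ f s : Fin 2 → Perm (Fin 12), c12 0 = f 0 * f 1 ∧ c12 1 = s 0 * s 1 ∧
    ∀ i j, f i * s j = s j * f i ∧ f i ^ 5 = 1 ∧ s j ^ 7 = 1 :=
  ⟨![pm 12 0xb98765431a2, pm 12 0xa19876543b02],
    ![pm 12 0xba3987465210, pm 12 0xba8764935210], by decide +kernel⟩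

theorem disj12 {X : Type*} [MulAction (alternatingGroup (Fin 12)) X] (P : X → Prop)
    (hP : ∀ (g : alternatingGroup (Fin 12)) x, P x → P (g • x))
    (hc : ∀ f : Fin 35 → X, Function.Injective f → ¬ ∀ i, P (f i)) {i j : Fin 4} (hij : i ≠ j)
    {x : X} (hx : P x) : a12 i • x = x ∨ a12 j • x = x := by
  have key : ∀ x, P x → a12 0 • x = x ∨ a12 1 • x = x := fun x hx => by
    obtain ⟨f, s, e0, e1, h⟩ := exists_57
    let F : Fin 2 → alternatingGroup (Fin 12) := fun i => ⟨f i, sign_odd (by decide) (h i 0).2.1⟩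
    let S : Fin 2 → alternatingGroup (Fin 12) := fun i => ⟨s i, sign_odd (by decide) (h 0 i).2.2⟩
    have h' : ∀ i j, F i • x = x ∨ S j • x = x := fun i j =>
      five_seven P hP hc (Subtype.ext (h i j).1) (Subtype.ext (h i j).2.1)
        (Subtype.ext (h i j).2.2) hx
    have h1 := h' 0 0
    have h2 := h' 0 1
    have h3 := h' 1 0
    have h4 := h' 1 1
    rw [show a12 0 = F 0 * F 1 from Subtype.ext e0, show a12 1 = S 0 * S 1 from Subtype.ext e1,
      mul_smul, mul_smul]
    rcases h1 with h1 | h1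
    · rcases h3 with h3 | h3
      · exact Or.inl (by rw [h3, h1])
      · rcases h4 with h4 | h4
        · exact Or.inl (by rw [h4, h1])
        · exact Or.inr (by rw [h4, h3])
    · rcases h2 with h2 | h2
      · rcases h4 with h4 | h4
        · exact Or.inl (by rw [h4, h2])
        · exact Or.inr (by rw [h4, h1])
      · exact Or.inr (by rw [h2, h1])
  obtain ⟨σ, h1, h2, h3⟩ := b12_spec i j hij
  let s : alternatingGroup (Fin 12) := ⟨σ, h1⟩
  have e : ∀ a b, s * a12 a = a12 b * s → a12 a • s⁻¹ • x = s⁻¹ • x → a12 b • x = x :=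
    fun a b h h' => by
      rw [← smul_inv_smul s x, ← mul_smul, ← h, mul_smul, h']
  exact (key _ (hP s⁻¹ x hx)).imp (e _ _ (Subtype.ext h2)) (e _ _ (Subtype.ext h3))

theorem eqns_perm : (∀ h, pm 1 0 h = pm 1 0 h) ∧ c12 = c12 ∧ b12 = b12 ∧ (∀ i, a12 i = a12 i) :=
  ⟨fun h => (pm.eq_1 1 0 h).trans (pm.eq_1 1 0 h).symm, c12.eq_1.trans c12.eq_1.symm, b12.eq_1.trans b12.eq_1.symm,
    fun i => (a12.eq_1 i).trans (a12.eq_1 i).symm⟩

end H63.AE
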