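import Mathlib
import Cfsg.Prelude.Def_E6

/-! Functions on the 27 weights of `E₆` that are trivial on the 45 triangles. -/

set_option autoImplicit false

namespace H63.AE

open Cfsg.Lie Finset

/-- The five triangles through a weight. -/
def tr (a : I27) : Fin 5 → I27 × I27 :=
  ![((a.1 + 1, a.2.2, 0), (a.1 + 2, 0, a.2.1)), ((a.1 + 1, a.2.2, 1), (a.1 + 2, 1, a.2.1)),
    ((a.1 + 1, a.2.2, 2), (a.1 + 2, 2, a.2.1)),
    ((a.1, a.2.1 + 1, a.2.2 + 1), (a.1, a.2.1 + 2, a.2.2 + 2)),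
    ((a.1, a.2.1 + 1, a.2.2 + 2), (a.1, a.2.1 + 2, a.2.2 + 1))]

/-- The product over each triangle is one. -/
def Tri {M : Type*} [CommMonoid M] (d : I27 → M) : Prop :=
  ∀ a j, d a * d (tr a j).1 * d (tr a j).2 = 1

/-- One of the two other vertices of a triangle. -/
def pick (a : I27) (j : Fin 5) (β : Bool) : I27 := if β then (tr a j).1 else (tr a j).2

theorem pick_nodup : ∀ (a : I27) (c0 c1 c2 c3 c4 β : Bool), [a, pick a 0 c0, pick a 1 c1,
    pick a 2 c2, pick a 3 c3, pick a 4 c4, pick (pick a 0 c0) 3 β].Nodup := by decide +kernel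

open Classical in
theorem Tri.eq_one {M : Type*} [CommMonoid M] {d : I27 → M} (h : Tri d)
    (h21 : 21 ≤ (univ.filter fun a => d a = 1).card) (a : I27) : d a = 1 := by
  by_contra ha
  have key : ∀ a j, d a ≠ 1 → ∃ β, d (pick a j β) ≠ 1 := fun a j ha => by
    by_contra hc
    push Not at hc
    have := h a j
    rw [show d (tr a j).1 = 1 from hc true, show d (tr a j).2 = 1 from hc false] at this
    exact ha (by simpa using this)
  choose c hc using fun j => key a j ha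
  obtain ⟨β, hβ⟩ := key _ 3 (hc 0)
  have h1 := List.toFinset_card_of_nodup (pick_nodup a (c 0) (c 1) (c 2) (c 3) (c 4) β)
  have h2 := card_filter_add_card_filter_not (s := univ) fun a => d a = 1
  have h3 := card_le_card (show [a, pick a 0 (c 0), pick a 1 (c 1), pick a 2 (c 2), pick a 3 (c 3),
    pick a 4 (c 4), pick (pick a 0 (c 0)) 3 β].toFinset ⊆ univ.filter fun a => ¬ d a = 1 by
      intro x hx
      simp only [List.mem_toFinset, List.mem_cons, List.not_mem_nil, or_false] at hx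
      rw [mem_filter]
      rcases hx with rfl | rfl | rfl | rfl | rfl | rfl | rfl
      exacts [⟨mem_univ _, ha⟩, ⟨mem_univ _, hc 0⟩, ⟨mem_univ _, hc 1⟩, ⟨mem_univ _, hc 2⟩,
        ⟨mem_univ _, hc 3⟩, ⟨mem_univ _, hc 4⟩, ⟨mem_univ _, hβ⟩])
  rw [h1] at h3
  simp only [List.length_cons, List.length_nil, card_univ, Fintype.card_prod, Fintype.card_fin]
    at h2 h3
  omega

theorem exists_param {A : Type*} [CommRing A] {f : I27 → A}
    (h : ∀ a j, f a + f (tr a j).1 + f (tr a j).2 = 0) (s : A) : ∃ x y z : Fin 3 → A,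
      (∀ i j, f (0, i, j) = x i - y j) ∧ (∀ i j, f (1, i, j) = y i - z j) ∧
      (∀ i j, f (2, i, j) = z i - x j) ∧ z 0 = s ∧ x 0 + x 1 + x 2 = y 0 + y 1 + y 2 ∧
      y 0 + y 1 + y 2 = z 0 + z 1 + z 2 ∧
      z 1 + z 2 = 2 * s + 2 * f (1, 0, 0) - f (1, 0, 1) - f (1, 0, 2) := by
  have m : ∀ i j l, f (0, i, j) + f (1, j, l) + f (2, l, i) = 0 := fun i j l => by
    fin_cases l
    exacts [h (0, i, j) 0, h (0, i, j) 1, h (0, i, j) 2]
  have e0 : ∀ i j, f (0, i, j) = s - f (2, 0, i) - (s + f (1, j, 0)) := fun i j => by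
    linear_combination m i j 0
  have e1 : ∀ i j, f (1, i, j) = s + f (1, i, 0) - (s + f (1, 0, 0) - f (1, 0, j)) := fun i j => by
    linear_combination m 0 i j - m 0 i 0 - m 0 0 j + m 0 0 0
  have d0 : f (0, 0, 0) + f (0, 1, 1) + f (0, 2, 2) = 0 := h (0, 0, 0) 3
  have d1 : f (1, 0, 0) + f (1, 1, 1) + f (1, 2, 2) = 0 := h (1, 0, 0) 3
  refine ⟨fun i => s - f (2, 0, i), fun j => s + f (1, j, 0), fun l => s + f (1, 0, 0) - f (1, 0, l),
    e0, e1, fun i j => ?_, by simp, ?_, ?_, by ring⟩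
  · linear_combination m j 0 i - m j 0 0
  · linear_combination d0 - e0 0 0 - e0 1 1 - e0 2 2
  · linear_combination d1 - e1 0 0 - e1 1 1 - e1 2 2

theorem sum_I27 {M : Type*} [AddCommMonoid M] (g : I27 → M) : ∑ a, g a =
    ∑ i, ∑ j, g (0, i, j) + ∑ i, ∑ j, g (1, i, j) + ∑ i, ∑ j, g (2, i, j) := by
  rw [Fintype.sum_prod_type, Fin.sum_univ_three]
  simp only [Fintype.sum_prod_type]

theorem sum_fib {A M : Type*} [Fintype A] [DecidableEq A] [Semiring M] (f : I27 → A) (e : A → M) :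
    ∑ a, e (f a) = ∑ j, ((univ.filter fun a => f a = j).card : M) * e j := by
  rw [← sum_fiberwise (s := univ) (g := f)]
  refine sum_congr rfl fun j _ => ?_
  rw [sum_congr rfl (g := fun _ => e j) fun a ha => by rw [(mem_filter.1 ha).2], sum_const,
    nsmul_eq_mul]

/-- The generating function of the differences. -/
def g3 (x0 x1 x2 y0 y1 y2 : ZMod 3) : ℕ :=
  32 ^ (x0 - y0).val + 32 ^ (x0 - y1).val + 32 ^ (x0 - y2).val +
    (32 ^ (x1 - y0).val + 32 ^ (x1 - y1).val + 32 ^ (x1 - y2).val) +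
    (32 ^ (x2 - y0).val + 32 ^ (x2 - y1).val + 32 ^ (x2 - y2).val)

theorem chk3 : ∀ x0 x1 x2 y0 y1 y2 : ZMod 3, x0 + x1 + x2 = y0 + y1 + y2 → ∀ z1 z2 : ZMod 3,
    y0 + y1 + y2 = 0 + z1 + z2 → (g3 x0 x1 x2 y0 y1 y2 + g3 y0 y1 y2 0 z1 z2 + g3 0 z1 z2 x0 x1 x2) % 1054 = 27 →
    (g3 x0 x1 x2 y0 y1 y2 + g3 y0 y1 y2 0 z1 z2 + g3 0 z1 z2 x0 x1 x2) / 1054 ∈ [0, 6, 9] := by
  decide +kernel

theorem three_add {f : I27 → ZMod 3} (h : ∀ a j, f a + f (tr a j).1 + f (tr a j).2 = 0)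
    (e : (univ.filter fun a => f a = 1).card = (univ.filter fun a => f a = 2).card) :
    (univ.filter fun a => f a = 1).card ∈ [0, 6, 9] := by
  obtain ⟨x, y, z, h0, h1, h2, h3, h4, h5, -⟩ := exists_param h 0
  have e1 := sum_fib f fun j => 32 ^ j.val
  have e2 := sum_fib f fun _ => 1
  rw [sum_I27] at e1
  simp only [h0, h1, h2, Fin.sum_univ_three, h3] at e1
  have e3 : ∀ g : ZMod 3 → ℕ, ∑ j, g j = g 0 + g 1 + g 2 := fun g => Fin.sum_univ_three g
  rw [e3] at e1 e2
  have := chk3 _ _ _ _ _ _ h4 _ _ (h3 ▸ h5)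
  simp only [g3] at this
  rw [e1] at this
  simp only [sum_const, card_univ, Fintype.card_prod, Fintype.card_fin, smul_eq_mul, mul_one,
    Nat.cast_id, ← e] at e2
  rw [← e, show (0 : ZMod 3).val = 0 from rfl, show (1 : ZMod 3).val = 1 from rfl,
    show (2 : ZMod 3).val = 2 from rfl] at this
  simp only [Nat.cast_id] at this
  convert this (by omega) using 1
  omega

/-- The character `j ↦ 32 ^ j` modulo `32 ^ 11 - 1`. -/
def e11 (j : ZMod 11) : ZMod 36028797018963967 := 32 ^ j.val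

theorem e11_sub : ∀ u v, e11 (u - v) = e11 u * e11 (-v) := by decide +kernel

/-- The values on triples of sum zero. -/
def L11 : List (ℕ × ℕ) :=
  [(0x3, 0x3), (0x4000000000021, 0x4000000000021), (0x200000000401, 0x200000000401),
    (0x10000008001, 0x10000008001), (0x800100001, 0x800100001), (0x42000001, 0x42000001),
    (0x200000000040, 0x8000000000400), (0x10000000420, 0x4200000008000), (0x800008020,
    0x4010000100000), (0x40100020, 0x4000802000000), (0x4000020, 0x4000080000000), (0x800000800,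
    0x400000100000), (0x40008400, 0x210002000000), (0x2100400, 0x200840000000),
    (0x8000000000400, 0x200000000040), (0x2010000, 0x20040000000), (0x208000, 0x11000000000),
    (0x4200000008000, 0x10000000420), (0x4010000100000, 0x800008020), (0x400000100000,
    0x800000800), (0x4000802000000, 0x40100020), (0x210002000000, 0x40008400), (0x4000080000000,
    0x4000020), (0x200840000000, 0x2100400), (0x20040000000, 0x2010000), (0x11000000000,
    0x208000)]

theorem mem_L11 : ∀ u v w, u + v + w = 0 → ∃ p ∈ L11,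
    e11 u + e11 v + e11 w = p.1 ∧ e11 (-u) + e11 (-v) + e11 (-w) = p.2 := by decide +kernel

theorem chk11a : (L11.all fun p => L11.all fun q => L11.all fun r =>
    !(Nat.beq ((p.1 * q.2 + q.1 * r.2 + r.1 * p.2) % 36028797018963967) 1162219258676273 ||
      Nat.beq ((p.1 * q.2 + q.1 * r.2 + r.1 * p.2) % 36028797018963967) 2324438517352519)) = true := by
  decide +kernel

theorem chk11 {p q r : ℕ × ℕ} (hp : p ∈ L11) (hq : q ∈ L11) (hr : r ∈ L11) :
    (p.1 * q.2 + q.1 * r.2 + r.1 * p.2 : ZMod 36028797018963967) ∉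
      [((1162219258676273 : ℕ) : ZMod 36028797018963967), (2324438517352519 : ℕ)] := by
  have := List.all_eq_true.1 (List.all_eq_true.1 (List.all_eq_true.1 chk11a p hp) q hq) r hr
  rw [Bool.not_eq_true', ← Bool.not_eq_true, Bool.or_eq_true, Nat.beq_eq, Nat.beq_eq] at this
  rw [← Nat.cast_mul, ← Nat.cast_mul, ← Nat.cast_mul, ← Nat.cast_add, ← Nat.cast_add]
  simp only [List.mem_cons, List.not_mem_nil, or_false, ZMod.natCast_eq_natCast_iff']
  exact this

theorem eleven_add {f : I27 → ZMod 11} (h : ∀ a j, f a + f (tr a j).1 + f (tr a j).2 = 0)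
    (e : ∀ j, (univ.filter fun a => f a = j).card ≤ (univ.filter fun a => f a = 2 * j).card)
    (a : I27) : f a = 0 := by
  obtain ⟨x, y, z, h0, h1, h2, h3, h4, h5, h6⟩ := exists_param h
    (7 * (2 * f (1, 0, 0) - f (1, 0, 1) - f (1, 0, 2)))
  have h7 : z 0 + z 1 + z 2 = 0 := by
    have : (22 : ZMod 11) = 0 := rfl
    linear_combination h3 + h6 + (2 * f (1, 0, 0) - f (1, 0, 1) - f (1, 0, 2)) * this
  have e1 := sum_fib f e11
  have e2 := sum_fib f fun _ => 1
  obtain ⟨p, hp, p1, p2⟩ := mem_L11 _ _ _ (h4.trans (h5.trans h7))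
  obtain ⟨q, hq, q1, q2⟩ := mem_L11 _ _ _ (h5.trans h7)
  obtain ⟨r, hr, r1, r2⟩ := mem_L11 _ _ _ h7
  have k := chk11 hp hq hr
  rw [← p1, ← p2, ← q1, ← q2, ← r1, ← r2] at k
  have e4 : ∑ a, e11 (f a) = (e11 (x 0) + e11 (x 1) + e11 (x 2)) *
      (e11 (-y 0) + e11 (-y 1) + e11 (-y 2)) + (e11 (y 0) + e11 (y 1) + e11 (y 2)) *
      (e11 (-z 0) + e11 (-z 1) + e11 (-z 2)) + (e11 (z 0) + e11 (z 1) + e11 (z 2)) *
      (e11 (-x 0) + e11 (-x 1) + e11 (-x 2)) := by
    rw [sum_I27]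
    simp only [h0, h1, h2, Fin.sum_univ_three, e11_sub]
    ring
  rw [← e4, e1] at k
  obtain ⟨n, hn⟩ : ∃ n : ZMod 11 → ℕ, n = fun j => (univ.filter fun a => f a = j).card := ⟨_, rfl⟩
  have hn' : ∀ j, (univ.filter fun a => f a = j).card = n j := fun j => by rw [hn]
  simp only [hn'] at e e2 k
  have a1 : ∀ j, j ≠ 0 → n j = n 1 := by
    have : ∀ j : ZMod 11, j ≠ 0 → ∃ i < 10, j = 2 ^ i := by decide
    have mono : ∀ i m : ℕ, n (2 ^ i) ≤ n (2 ^ (i + m)) := fun i m => by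
      induction m with
      | zero => rfl
      | succ m ih => rw [← add_assoc, pow_succ']; exact ih.trans (e _)
    intro j hj
    obtain ⟨i, hi, rfl⟩ := this j hj
    have b1 := mono 0 i
    have b2 := mono i (10 - i)
    rw [show i + (10 - i) = 10 by omega, show (2 : ZMod 11) ^ 10 = 1 by decide] at b2
    rw [zero_add, pow_zero] at b1
    omega
  have a2 : ∀ {M : Type} [Semiring M] (g : ZMod 11 → M), ∑ j, (n j : M) * g j =
      n 0 * g 0 + n 1 * ∑ j ∈ univ.erase 0, g j := fun g => by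
    rw [← add_sum_erase _ _ (mem_univ 0), mul_sum]
    congr 1
    exact sum_congr rfl fun j hj => by rw [a1 j (ne_of_mem_erase hj)]
  rw [a2] at e2 k
  have a3 : n 0 + n 1 * 10 = 27 := by simpa using e2.symm
  have a4 : n 1 = 0 := by
    by_contra a5
    obtain ⟨a6, a7⟩ | ⟨a6, a7⟩ : n 1 = 1 ∧ n 0 = 17 ∨ n 1 = 2 ∧ n 0 = 7 := by omega
    all_goals
      rw [a6, a7] at k
      exact k (by decide +kernel)
  by_contra ha
  have := hn' (f a)
  rw [a1 _ ha, a4, card_eq_zero, filter_eq_empty_iff] at this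
  exact this (mem_univ a) rfl

variable {k : Type*} [Field k] {d : I27 → k}

theorem exists_log {n : ℕ} [NeZero n] {ζ : k} (hζ : IsPrimitiveRoot ζ n) (h : Tri d)
    (hd : ∀ a, d a ^ n = 1) : ∃ f : I27 → ZMod n, (∀ a j, f a + f (tr a j).1 + f (tr a j).2 = 0) ∧
      ∀ a (j : ℕ), d a = ζ ^ j ↔ f a = j := by
  choose f h1 h2 using fun a => hζ.eq_pow_of_pow_eq_one (hd a)
  refine ⟨fun a => f a, fun a j => ?_, fun a j => ?_⟩
  · have := h a j
    rw [← h2, ← h2, ← h2, ← pow_add, ← pow_add, hζ.pow_eq_one_iff_dvd] at this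
    simpa using (ZMod.natCast_eq_zero_iff _ _).2 this
  · rw [← h2, ZMod.natCast_eq_natCast_iff, hζ.eq_orderOf]
    exact (hζ.isOfFinOrder (NeZero.ne n)).pow_eq_pow_iff_modEq

open Classical in
theorem Tri.three (h : Tri d) {ω : k} (hω : IsPrimitiveRoot ω 3) (hd : ∀ a, d a ^ 3 = 1)
    (e : (univ.filter fun a => d a = ω).card = (univ.filter fun a => d a = ω ^ 2).card) :
    (univ.filter fun a => d a = ω).card ∈ [0, 6, 9] := by
  obtain ⟨f, h1, h2⟩ := exists_log hω h hd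
  have h3 : ∀ a, d a = ω ↔ f a = 1 := fun a => by simpa using h2 a 1
  simp only [h2, h3] at e ⊢
  convert three_add h1 (by convert e; rfl)

open Classical in
theorem Tri.eleven (h : Tri d) {ζ : k} (hζ : IsPrimitiveRoot ζ 11) (hd : ∀ a, d a ^ 11 = 1)
    (e : ∀ c, (univ.filter fun a => d a = c).card ≤ (univ.filter fun a => d a = c ^ 2).card)
    (a : I27) : d a = 1 := by
  obtain ⟨f, h1, h2⟩ := exists_log hζ h hd
  have := eleven_add h1 (fun j => by
    have := e (ζ ^ j.val)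
    simp only [← pow_mul, h2] at this
    convert this using 4 <;> simp [mul_comm]) a
  simpa using (h2 a 0).2 (by simpa using this)

theorem eqns_tri : (∀ a, tr a = tr a) ∧ (∀ d : I27 → ℚ, Tri d = Tri d) ∧ (∀ a j β, pick a j β = pick a j β) ∧
    L11 = L11 ∧ ∀ j, e11 j = e11 j ∧ g3 0 0 0 0 0 0 = g3 0 0 0 0 0 0 :=
  ⟨fun a => (tr.eq_1 a).trans (tr.eq_1 a).symm, fun d => (Tri.eq_1 d).trans (Tri.eq_1 d).symm,
    fun a j β => (pick.eq_1 a j β).trans (pick.eq_1 a j β).symm, L11.eq_1.trans L11.eq_1.symm,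
    fun j => ⟨(e11.eq_1 j).trans (e11.eq_1 j).symm, (g3.eq_1 ..).trans (g3.eq_1 ..).symm⟩⟩

end H63.AE
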